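import Cfsg.Agent.Lib.Known.G2Singer.Rep
import Cfsg.Agent.Lib.HallGen.ChevG2Basic
import Cfsg.Agent.Lib.Lie.Rel.Inst

/-!
# The homomorphism of `SL(3)` into the Chevalley group and its diagonal
-/

set_option autoImplicit false

namespace CfsgLib.Known.G2Singer

open Cfsg.Lie (ChevalleyDatum chevG2)
open CfsgLib.Lie.Chev
open scoped Matrix MatrixGroups

variable (F : Type*) [Field F]

/-- The Chevalley group of type `G₂`. -/
abbrev GG : Type _ := ↥(chevG2.group F)

/-- Its relation system. -/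
noncomputable abbrev RR : Rel chevG2 auxG2 F (GG F) := chevRel certG2 F

/-- `SL(3)` acting on the adjoint module. -/
noncomputable def toGL : SL(3, F) →* GL chevG2.Idx F :=
  (Units.map (phiM (F := F))).comp Matrix.SpecialLinearGroup.toGL

theorem toGL_val (g : SL(3, F)) :
    ((toGL F g : GL chevG2.Idx F) : Matrix chevG2.Idx chevG2.Idx F) = phiM (g : Matrix (Fin 3) (Fin 3) F) := rfl

theorem toGL_mem (g : SL(3, F)) : toGL F g ∈ chevG2.group F := by
  have h : (⊤ : Subgroup (SL(3, F))) ≤ (chevG2.group F).comap (toGL F) := by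
    refine (CfsgLib.Classical.closure_transvection_eq_top _ fun i j hij c => ?_).ge
    show toGL F _ ∈ chevG2.group F
    have e : toGL F (Matrix.SpecialLinearGroup.transvection hij c) =
        ((RR F).xe (rootOf i j) c : GL chevG2.Idx F) := by
      refine Units.ext ?_
      rw [toGL_val]
      exact phiM_transvection hij c
    rw [e]
    exact ((RR F).xe (rootOf i j) c).2
  exact h (Subgroup.mem_top g)

/-- `SL(3)` mapped into the Chevalley group. -/
noncomputable def emb : SL(3, F) →* GG F := (toGL F).codRestrict (chevG2.group F) (toGL_mem F)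

variable {F}

theorem emb_mat (g : SL(3, F)) :
    (((emb F g : GG F) : GL chevG2.Idx F) : Matrix chevG2.Idx chevG2.Idx F) = phiM (g : Matrix (Fin 3) (Fin 3) F) := rfl

theorem eq_one_of_phiM {M : Matrix (Fin 3) (Fin 3) F} (h : phiM M = 1) : M = 1 := by
  ext i j
  obtain ⟨kk, hkk⟩ : ∃ kk : Fin 3 → Fin 14, kk = ![10, 9, 4] := ⟨_, rfl⟩
  obtain ⟨c, hc⟩ : ∃ c, c = (Pi.single (idx (kk j)) (1 : F) : chevG2.Idx → F) := ⟨_, rfl⟩
  have h1 : coord (act M (iota c)) (idx (kk i)) = c (idx (kk i)) := by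
    show phiL M c (idx (kk i)) = _
    rw [← phiM_mulVec, h, Matrix.one_mulVec]
  have hcn : ∀ m : Fin 14, cn c m = if m = kk j then 1 else 0 := fun m => by
    rw [← apply_idx c m, hc, Pi.single_apply]
    by_cases e : m = kk j
    · rw [if_pos (congrArg idx e), if_pos e]
    · rw [if_neg e, if_neg]
      intro e'
      exact e (Fin.ext (by rw [← code_idx m, ← code_idx (kk j), e']))
  have h4 := hcn 4; have h9 := hcn 9; have h10 := hcn 10
  simp only [show ((4 : Fin 14) : ℕ) = 4 from rfl, show ((9 : Fin 14) : ℕ) = 9 from rfl,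
    show ((10 : Fin 14) : ℕ) = 10 from rfl] at h4 h9 h10
  rw [coord_apply, apply_idx c (kk i), hcn] at h1
  subst hkk
  fin_cases i <;> fin_cases j <;>
    simpa [coordL, iota, act, Matrix.mulVec, dotProduct, Fin.sum_univ_three, h4, h9, h10] using h1

theorem emb_injective : Function.Injective (emb F) := by
  rw [injective_iff_map_eq_one]
  intro g hg
  exact Subtype.ext (eq_one_of_phiM ((emb_mat g).symm.trans
    (congrArg (fun x : GG F => ((x : GL chevG2.Idx F) : Matrix chevG2.Idx chevG2.Idx F)) hg)))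

theorem emb_map {K : Type*} [Field K] (f : F →+* K) (g : SL(3, F)) :
    ChevFixed.groupMap chevG2 f (emb F g) = emb K (Matrix.SpecialLinearGroup.map f g) := by
  refine Subtype.ext (Units.ext ?_)
  show (phiM (g : Matrix (Fin 3) (Fin 3) F)).map f = phiM ((g : Matrix (Fin 3) (Fin 3) F).map f)
  exact phiM_map f _

/-- The weights of the basis vectors under a diagonal element. -/
def wts (d : Fin 3 → F) : List F :=
  [1, 1, d 2 * (d 1 * d 2), d 2 * (d 0 * d 2), d 2, d 1 * d 2, d 0 * d 2, d 1 * (d 1 * d 2), d 0 * (d 0 * d 2), d 1,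
    d 0, d 0 * d 1, d 1 * (d 0 * d 1), d 0 * (d 0 * d 1)]

theorem phiM_diagonal {d : Fin 3 → F} (hd : d 0 * d 1 * d 2 = 1) :
    phiM (Matrix.diagonal d) = Matrix.diagonal fun a => (wts d).getD (code chevG2 a) 0 := by
  have hadj : (Matrix.diagonal d).adjugate = Matrix.diagonal ![d 1 * d 2, d 0 * d 2, d 0 * d 1] := by
    ext i j
    fin_cases i <;> fin_cases j <;>
      simp [Matrix.adjugate_fin_three, Matrix.diagonal]
  refine Matrix.ext fun a b => ?_
  suffices key : ∀ c : chevG2.Idx → F, phiL (Matrix.diagonal d) c a = (wts d).getD (code chevG2 a) 0 * c a by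
    have h1 := key (Pi.single b 1)
    rw [← phiM_mulVec, Matrix.mulVec_single_one] at h1
    refine h1.trans ?_
    rw [Matrix.diagonal_apply, Pi.single_apply]
    split <;> simp
  intro c
  show coord (act (Matrix.diagonal d) (iota c)) a = _
  have h01 : act (Matrix.diagonal d) (iota c) =
      (Matrix.diagonal d * (iota c).1 * Matrix.diagonal ![d 1 * d 2, d 0 * d 2, d 0 * d 1],
        Matrix.diagonal d *ᵥ (iota c).2.1, (Matrix.diagonal ![d 1 * d 2, d 0 * d 2, d 0 * d 1])ᵀ *ᵥ (iota c).2.2) := by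
    rw [← hadj]; rfl
  rw [h01]
  obtain ⟨k, rfl⟩ := exists_idx a
  rw [coord_apply, apply_idx c k, code_idx]
  fin_cases k <;>
    simp [coordL, iota, wts, Matrix.mul_diagonal, Matrix.diagonal_mul, Matrix.mulVec_diagonal,
      Matrix.diagonal_transpose] <;>
    grobner

/-- The weight of a root at a diagonal element. -/
def rootWt (d : Fin 3 → F) (r : Fin chevG2.nroots) : F := (wts d).getD (2 + (r : ℕ)) 0

/-- The exponents of the coordinates of a diagonal element in the fundamental torus parameters. -/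
def expC : Fin 3 → Fin 2 → ℤ := ![![-1, 1], ![2, -1], ![-1, 0]]

/-- The exponents of the roots of `G₂` with respect to the diagonal coordinates. -/
def expR : List (Fin 3 → ℤ) :=
  [![0, 1, 2], ![1, 0, 2], ![0, 0, 1], ![0, 1, 1], ![1, 0, 1], ![0, 2, 1], ![2, 0, 1], ![0, 1, 0], ![1, 0, 0],
    ![1, 1, 0], ![1, 2, 0], ![2, 1, 0]]

theorem exp_facts : ∀ r : Fin 12, ∀ i : Fin 2,
    (expR.getD r 0 0) * expC 0 i + (expR.getD r 0 1) * expC 1 i + (expR.getD r 0 2) * expC 2 i =
      chevG2.cartan i r := by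
  decide +kernel

theorem g2_rank : chevG2.rank = 2 := rfl

theorem rootWt_zpow {d : Fin 3 → F} (hd : ∀ i, d i ≠ 0) (r : Fin 12) :
    rootWt d r = d 0 ^ (expR.getD r 0 0) * d 1 ^ (expR.getD r 0 1) * d 2 ^ (expR.getD r 0 2) := by
  fin_cases r <;> simp [rootWt, wts, expR, zpow_two, show ∀ x : F, x ^ (2 : ℤ) = x * x from fun x => zpow_two x] <;> ring

theorem torusHom_mat_eq (u v : Fˣ) {d : Fin 3 → F} (h0 : d 0 = (v : F) / u) (h1 : d 1 = (u : F) * u / v)
    (h2 : d 2 = (u : F)⁻¹) :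
    (RR F).mat ((RR F).torusHom (fun i : Fin chevG2.rank => if (i : ℕ) = 0 then u else v)) =
      phiM (Matrix.diagonal d) := by
  have hd : d 0 * d 1 * d 2 = 1 := by rw [h0, h1, h2]; field_simp
  have hd0 : ∀ i, d i ≠ 0 := by intro i; fin_cases i <;> simp [h0, h1, h2]
  rw [torusHom_mat, phiM_diagonal hd]
  congr 1
  funext a
  rcases a with i | r
  · have hi : code chevG2 (Sum.inl i) < 2 := i.2
    rw [Sum.elim_inl]
    obtain h | h : code chevG2 (Sum.inl i) = 0 ∨ code chevG2 (Sum.inl i) = 1 := by omega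
    all_goals rw [h]; simp [wts]
  · rw [Sum.elim_inr, code_inr, g2_rank]
    show _ = rootWt d r
    rw [rootWt_zpow hd0 r, h0, h1, h2]
    have e0 := exp_facts r 0
    have e1 := exp_facts r 1
    simp only [expC, Matrix.cons_val_zero, Matrix.cons_val_one, Matrix.cons_val] at e0 e1
    rw [Units.coe_prod]
    change (∏ i : Fin 2, (((if (i : ℕ) = 0 then u else v) ^ chevG2.cartan i r : Fˣ) : F)) = _
    rw [Fin.prod_univ_two]
    simp only [Fin.val_zero, Fin.val_one, one_ne_zero, if_true, if_false, Units.val_zpow_eq_zpow_val] at e0 e1 ⊢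
    rw [← e0, ← e1]
    simp only [div_eq_mul_inv, mul_zpow, ← zpow_neg_one, ← zpow_mul]
    simp only [mul_comm _ (-1 : ℤ), neg_one_mul, zpow_add₀ (Units.ne_zero u), zpow_add₀ (Units.ne_zero v),
      mul_neg, neg_neg]
    simp only [← zpow_add₀ (Units.ne_zero u), ← zpow_add₀ (Units.ne_zero v), ← zpow_mul]
    ring_nf
    simp only [sub_eq_add_neg, zpow_add₀ (Units.ne_zero u), zpow_add₀ (Units.ne_zero v)]
    ring

theorem diag_mem_HS {d : Fin 3 → F} {g : SL(3, F)} (hg : (g : Matrix (Fin 3) (Fin 3) F) = Matrix.diagonal d) :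
    emb F g ∈ (RR F).HS := by
  have hd : d 0 * d 1 * d 2 = 1 := by
    have := g.2; rw [hg, Matrix.det_diagonal, Fin.prod_univ_three] at this; exact this
  have h2 : d 2 ≠ 0 := fun h => by simp [h] at hd
  have h0 : d 0 ≠ 0 := fun h => by simp [h] at hd
  obtain ⟨u, hu⟩ : ∃ u : Fˣ, (u : F) = (d 2)⁻¹ := ⟨Units.mk0 _ (inv_ne_zero h2), rfl⟩
  obtain ⟨v, hv⟩ : ∃ v : Fˣ, (v : F) = d 0 / d 2 := ⟨Units.mk0 _ (div_ne_zero h0 h2), rfl⟩
  have e := torusHom_mat_eq u v (d := d) (by rw [hu, hv]; field_simp) (by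
    rw [hu, hv]; field_simp; linear_combination hd) (by rw [hu, inv_inv])
  have : emb F g = ((RR F).torusHom fun i => if (i : ℕ) = 0 then u else v : GG F) := by
    refine Subtype.ext (Units.ext ?_)
    rw [emb_mat, hg, ← e]; rfl
  rw [this]
  exact SetLike.coe_mem _

theorem exists_diag_of_mem_HS {x : GG F} (hx : x ∈ (RR F).HS) :
    ∃ (d : Fin 3 → F) (g : SL(3, F)), (g : Matrix (Fin 3) (Fin 3) F) = Matrix.diagonal d ∧ emb F g = x := by
  obtain ⟨c, hc⟩ := (RR F).torusHom_surjective ⟨x, hx⟩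
  have hc' : ((RR F).torusHom c : GG F) = x := congrArg Subtype.val hc
  obtain ⟨u, hu⟩ : ∃ u : Fˣ, u = c (⟨0, by decide⟩ : Fin chevG2.rank) := ⟨_, rfl⟩
  obtain ⟨v, hv⟩ : ∃ v : Fˣ, v = c (⟨1, by decide⟩ : Fin chevG2.rank) := ⟨_, rfl⟩
  obtain ⟨d, hd⟩ : ∃ d : Fin 3 → F, d = ![(v : F) / u, (u : F) * u / v, (u : F)⁻¹] := ⟨_, rfl⟩
  have hdet : (Matrix.diagonal d).det = 1 := by
    rw [Matrix.det_diagonal, Fin.prod_univ_three, hd]; simp
  obtain ⟨g, hg⟩ : ∃ g : SL(3, F), (g : Matrix (Fin 3) (Fin 3) F) = Matrix.diagonal d := ⟨⟨_, hdet⟩, rfl⟩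
  refine ⟨d, g, hg, ?_⟩
  have hcf : (fun i : Fin chevG2.rank => if (i : ℕ) = 0 then u else v) = c := by
    funext i
    obtain ⟨i, hi⟩ := i
    have : i < 2 := hi
    obtain rfl | rfl : i = 0 ∨ i = 1 := by omega
    · rw [if_pos rfl, hu]
    · rw [if_neg one_ne_zero, hv]
  refine Subtype.ext (Units.ext ?_)
  rw [← hc', ← hcf, emb_mat, hg, ← torusHom_mat_eq u v (d := d) (by simp [hd]) (by simp [hd]) (by simp [hd])]
  rfl

theorem isMon_diag {d : Fin 3 → F} {g : SL(3, F)} (hg : (g : Matrix (Fin 3) (Fin 3) F) = Matrix.diagonal d) :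
    (RR F).IsMon (emb F g) 1 (rootWt d) := by
  have hd : d 0 * d 1 * d 2 = 1 := by
    have := g.2; rw [hg, Matrix.det_diagonal, Fin.prod_univ_three] at this; exact this
  have hmem := diag_mem_HS hg
  obtain ⟨a, ha, hm⟩ := (RR F).exists_mat_HS hmem
  refine (congrArg ((RR F).IsMon _ 1) (funext fun r => ?_)).mp ha
  have h2 : (RR F).mat (emb F g) (Sum.inr r) (Sum.inr r) = rootWt d r := by
    show phiM (g : Matrix (Fin 3) (Fin 3) F) _ _ = _
    rw [hg, phiM_diagonal hd, Matrix.diagonal_apply_eq, code_inr, g2_rank]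
    rfl
  rw [hm, Matrix.diagonal_apply_eq] at h2
  simpa using h2

end CfsgLib.Known.G2Singer
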