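import Cfsg.Agent.Lib.Known.G2Singer.Torus
import Cfsg.Agent.Lib.Known.RegularTorus
import Cfsg.Agent.Lib.Known.PSLTori

/-!
# The cyclic self-centralising subgroup of order `q² + q + 1` of `G₂(q)`
-/

set_option autoImplicit false

namespace CfsgLib.Known.G2Singer

open Cfsg.Lie (ChevalleyDatum chevG2)
open CfsgLib.Lie.Chev
open scoped Matrix MatrixGroups

/-- The exponents of the roots at the diagonal element with entries `β`, `β^q`, `β^(q²)`. -/
def expRaw (q : ℕ) : List ℕ :=
  [q + 2 * (q * q), 1 + 2 * (q * q), q * q, q + q * q, 1 + q * q, 2 * q + q * q, 2 + q * q, q, 1, 1 + q,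
    1 + 2 * q, 2 + q]

/-- The same exponents reduced modulo `q² + q + 1`. -/
def expRed (q : ℕ) : List ℕ :=
  [q * q - 1, q * q - q, q * q, q + q * q, 1 + q * q, q - 1, 2 + q * q, q, 1, 1 + q, 1 + 2 * q, 2 + q]

theorem expRed_facts {q : ℕ} (hq : 3 ≤ q) (r : Fin 12) :
    0 < (expRed q).getD r 0 ∧ (expRed q).getD r 0 < q * q + q + 1 ∧
      ((expRaw q).getD r 0 = (expRed q).getD r 0 ∨
        (expRaw q).getD r 0 = (expRed q).getD r 0 + (q * q + q + 1)) := by
  have : q * 3 ≤ q * q := Nat.mul_le_mul_left q hq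
  fin_cases r <;> simp [expRaw, expRed] <;> omega

theorem expRed_inj {q : ℕ} (hq : 3 ≤ q) (r s : Fin 12)
    (h : (expRed q).getD r 0 = (expRed q).getD s 0) : r = s := by
  have h3 : q = 3 ∨ q * 4 ≤ q * q := by
    rcases hq.eq_or_lt with h | h
    · exact Or.inl h.symm
    · exact Or.inr (Nat.mul_le_mul_left q h)
  rcases h3 with rfl | h3
  · revert r s; decide
  · fin_cases r <;> fin_cases s <;> first | rfl | (simp [expRed] at h <;> omega)

theorem groupMap_comp_fixed {F K : Type*} [Field F] [Field K] (ι : F →+* K) (σ : K →+* K)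
    (h : ∀ c, σ (ι c) = ι c) (x : GG F) :
    ChevFixed.groupMap chevG2 σ (ChevFixed.groupMap chevG2 ι x) = ChevFixed.groupMap chevG2 ι x := by
  refine Subtype.ext (Units.ext (Matrix.ext fun a b => ?_))
  exact h _

theorem exists_singer_g2 {F : Type*} [Field F] [Fintype F] (q : ℕ) (hF : Fintype.card F = q) (hq : 3 ≤ q) :
    ∃ H : Subgroup (GG F), IsCyclic ↥H ∧ Nat.card ↥H = q ^ 2 + q + 1 ∧
      Subgroup.centralizer (H : Set (GG F)) = H := by
  classical
  obtain ⟨p, hc⟩ := CharP.exists F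
  haveI := hc
  obtain ⟨a, hp, -⟩ := FiniteField.card F p
  haveI : Fact p.Prime := ⟨hp⟩
  let K := FiniteField.Extension F p 3
  haveI : Finite K := Module.finite_of_finite F
  haveI : Fintype K := Fintype.ofFinite K
  have hK : Fintype.card K = q ^ 3 := by
    rw [← Nat.card_eq_fintype_card, ← hF, ← Nat.card_eq_fintype_card]
    exact FiniteField.natCard_extension F p 3
  obtain ⟨n, hn⟩ : ∃ n, n = q * q + q + 1 := ⟨_, rfl⟩
  -- the field automorphism
  obtain ⟨ι, hι⟩ : ∃ ι : F →+* K, ι = algebraMap F K := ⟨_, rfl⟩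
  obtain ⟨σ, hσ⟩ : ∃ σ : K →+* K, ∀ x, σ x = x ^ q :=
    ⟨(FiniteField.frobeniusAlgHom F K).toRingHom, fun x => by
      rw [← hF, ← Nat.card_eq_fintype_card]; simp [FiniteField.coe_frobeniusAlgHom]⟩
  have hσι : ∀ c, σ (ι c) = ι c := fun c => by
    rw [hσ, ← map_pow, ← hF, FiniteField.pow_card]
  have hfix : ∀ x, σ x = x → ∃ c, ι c = x := fun x hx => by
    rcases eq_or_ne x 0 with rfl | hx0
    · exact ⟨0, map_zero _⟩
    · rw [hι]
      refine PSLTori.exists_algebraMap_eq (F := F) x (mul_right_cancel₀ hx0 ?_)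
      rw [hF, ← pow_succ, show q - 1 + 1 = q by omega, ← hσ, hx, one_mul]
  have hσ3 : ∀ x, σ (σ (σ x)) = x := fun x => by
    rw [hσ, hσ, hσ, ← pow_mul, ← pow_mul, show q * (q * q) = q ^ 3 by ring, ← hK, FiniteField.pow_card]
  -- the element of order n
  obtain ⟨β, hβ⟩ : ∃ β : K, orderOf β = n := by
    obtain ⟨z, hz⟩ := IsCyclic.exists_ofOrder_eq_natCard (α := Kˣ)
    rw [Nat.card_units, Nat.card_eq_fintype_card, hK] at hz
    have e : q ^ 3 - 1 = (q - 1) * n := by
      obtain ⟨m, rfl⟩ : ∃ m, q = m + 1 := ⟨q - 1, by omega⟩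
      rw [hn, Nat.add_sub_cancel]
      refine Nat.sub_eq_of_eq_add ?_
      ring
    refine ⟨((z ^ (q - 1) : Kˣ) : K), ?_⟩
    rw [orderOf_units, orderOf_pow_of_dvd (by omega) (by rw [hz, e]; exact dvd_mul_right _ _), hz, e,
      Nat.mul_div_cancel_left _ (by omega)]
  have hβn : β ^ n = 1 := hβ ▸ pow_orderOf_eq_one β
  have hqq : q * 3 ≤ q * q := Nat.mul_le_mul_left q hq
  have hβinj : ∀ i j : ℕ, i < n → j < n → β ^ i = β ^ j → i = j := fun i j hi hj h =>
    pow_injOn_Iio_orderOf (by simpa [hβ] using hi) (by simpa [hβ] using hj) h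
  obtain ⟨dd, hdd⟩ : ∃ dd : K → Fin 3 → K, ∀ x, dd x = ![x, σ x, σ (σ x)] := ⟨_, fun _ => rfl⟩
  have hddσ : ∀ x i, σ (dd x i) = dd x (i + 1) := fun x i => by
    rw [hdd]; fin_cases i <;> simp [hσ3]
  have hddprod : ∀ x, dd x 0 * dd x 1 * dd x 2 = x ^ n := fun x => by
    rw [hdd]; simp [hσ, hn, ← pow_mul, ← pow_succ', ← pow_add]; ring
  -- the Vandermonde matrix
  obtain ⟨P, hP⟩ : ∃ P : Matrix (Fin 3) (Fin 3) K, P = Matrix.vandermonde (dd β) := ⟨_, rfl⟩
  have hPσ : P.map σ = P.submatrix (· + 1) id := by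
    ext i j
    simp [hP, Matrix.vandermonde_apply, hddσ]
  have hPdet : IsUnit P.det := by
    rw [isUnit_iff_ne_zero, hP, Matrix.det_vandermonde_ne_zero_iff]
    intro i j h
    obtain ⟨ee, hee⟩ : ∃ ee : Fin 3 → ℕ, ee = ![1, q, q * q] := ⟨_, rfl⟩
    have hd : ∀ i, dd β i = β ^ ee i := fun i => by
      rw [hdd, hee]; fin_cases i <;> simp [hσ, ← pow_mul]
    have he : ∀ i, ee i < n := fun i => by rw [hee]; fin_cases i <;> simp <;> omega
    rw [hd, hd] at h
    have h' := hβinj _ _ (he i) (he j) h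
    rw [hee] at h'
    fin_cases i <;> fin_cases j <;> first | rfl | (simp at h' <;> omega)
  obtain ⟨y, hy⟩ : ∃ y : SL(3, K), (y : Matrix (Fin 3) (Fin 3) K) = Matrix.diagonal ![P.det⁻¹, 1, 1] * P :=
    ⟨⟨_, by
      rw [Matrix.det_mul, Matrix.det_diagonal, Fin.prod_univ_three]
      simp [inv_mul_cancel₀ hPdet.ne_zero]⟩, rfl⟩
  have hiff : ∀ (M : Matrix (Fin 3) (Fin 3) K) (d : Fin 3 → K),
      (y : Matrix (Fin 3) (Fin 3) K) * M = Matrix.diagonal d * y ↔ P * M = Matrix.diagonal d * P := by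
    intro M d
    rw [hy, ← Matrix.mul_assoc (Matrix.diagonal d), Matrix.diagonal_mul_diagonal, Matrix.mul_assoc,
      show (fun i => d i * ![P.det⁻¹, 1, 1] i) = fun i => ![P.det⁻¹, 1, 1] i * d i from
        funext fun i => mul_comm _ _, ← Matrix.diagonal_mul_diagonal, Matrix.mul_assoc]
    refine ⟨fun h => Matrix.ext fun i j => ?_, fun h => congrArg _ h⟩
    have h' := congrFun (congrFun h i) j
    rw [Matrix.diagonal_mul, Matrix.diagonal_mul (d := ![P.det⁻¹, 1, 1])] at h'
    refine mul_left_cancel₀ ?_ h'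
    fin_cases i <;> simp [hPdet.ne_zero]
  -- the element over the base field
  obtain ⟨g0, hg0⟩ : ∃ g0 : SL(3, F),
      P * (g0 : Matrix (Fin 3) (Fin 3) F).map ι = Matrix.diagonal (dd β) * P := by
    obtain ⟨M, hM⟩ : ∃ M, M = P⁻¹ * (Matrix.diagonal (dd β) * P) := ⟨_, rfl⟩
    have hPM : P * M = Matrix.diagonal (dd β) * P := by rw [hM, Matrix.mul_nonsing_inv_cancel_left _ _ hPdet]
    have h1 : P * M.map σ = P * M := by
      have h2 := congrArg (fun X : Matrix (Fin 3) (Fin 3) K => X.map σ) hPM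
      simp only [Matrix.map_mul, Matrix.diagonal_map (map_zero σ), hPσ] at h2
      ext i j
      have h3 := congrFun (congrFun h2 (i - 1)) j
      rw [hPM, Matrix.diagonal_mul]
      rw [Matrix.diagonal_mul] at h3
      simpa [Matrix.mul_apply, hddσ] using h3
    have h2 : M.map σ = M := by
      simpa [← Matrix.mul_assoc, Matrix.nonsing_inv_mul _ hPdet] using congrArg (P⁻¹ * ·) h1
    choose N hN using fun i j => hfix (M i j) (congrFun (congrFun h2 i) j)
    have hmap : (Matrix.of N).map ι = M := Matrix.ext hN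
    have hdet : (Matrix.of N).det = 1 := by
      apply ι.injective
      rw [RingHom.map_det, RingHom.mapMatrix_apply, hmap, map_one]
      have h := congrArg Matrix.det hPM
      rw [Matrix.det_mul, Matrix.det_mul, Matrix.det_diagonal, Fin.prod_univ_three, hddprod, hβn, one_mul] at h
      exact hPdet.mul_eq_left.1 h
    exact ⟨⟨Matrix.of N, hdet⟩, by rw [show ((⟨Matrix.of N, hdet⟩ : SL(3, F)) : Matrix (Fin 3) (Fin 3) F) = Matrix.of N from rfl, hmap, hPM]⟩
  obtain ⟨D, hD⟩ : ∃ D : SL(3, K), (D : Matrix (Fin 3) (Fin 3) K) = Matrix.diagonal (dd β) :=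
    ⟨⟨Matrix.diagonal (dd β), by
      show (Matrix.diagonal (dd β)).det = 1
      rw [Matrix.det_diagonal, Fin.prod_univ_three, hddprod, hβn]⟩, rfl⟩
  have hyg : y * Matrix.SpecialLinearGroup.map ι g0 = D * y := by
    refine Subtype.ext ?_
    rw [Matrix.SpecialLinearGroup.coe_mul, Matrix.SpecialLinearGroup.coe_mul, hD]
    exact (hiff _ _).2 hg0
  have hord : orderOf g0 = n := by
    rw [← orderOf_injective (Matrix.SpecialLinearGroup.map ι) (fun a b h => Subtype.ext
      (Matrix.map_injective ι.injective (congrArg Subtype.val h))) g0,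
      ← orderOf_injective (MulAut.conj y).toMonoidHom (MulAut.conj y).injective,
      show (MulAut.conj y).toMonoidHom (Matrix.SpecialLinearGroup.map ι g0) = D by
        rw [MulEquiv.toMonoidHom_eq_coe, MonoidHom.coe_coe, MulAut.conj_apply, hyg, mul_inv_cancel_right],
      ← hβ, orderOf_eq_orderOf_iff]
    intro k
    refine ⟨fun h => ?_, fun h => Subtype.ext ?_⟩
    · have h' := congrFun (congrFun (congrArg Subtype.val h) 0) 0
      simpa [Matrix.SpecialLinearGroup.coe_pow, hD, Matrix.diagonal_pow, hdd] using h'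
    · rw [Matrix.SpecialLinearGroup.coe_pow, hD, Matrix.diagonal_pow, Matrix.SpecialLinearGroup.coe_one,
        ← Matrix.diagonal_one]
      congr 1
      funext i
      rw [Pi.pow_apply, hdd]
      fin_cases i <;> simp [← map_pow, h]
  refine ⟨Subgroup.zpowers (emb F g0), inferInstance, ?_, le_antisymm ?_ ?_⟩
  · rw [Nat.card_zpowers, orderOf_injective (emb F) emb_injective, hord, hn, pow_two]
  swap
  · exact Subgroup.le_centralizer _
  intro x hx
  have hcomm : emb F g0 * x = x * emb F g0 :=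
    (Subgroup.mem_centralizer_iff.1 hx) _ (Subgroup.mem_zpowers _)
  -- regularity of the diagonal element
  obtain ⟨Y, hY⟩ : ∃ Y : GG K, Y = emb K y := ⟨_, rfl⟩
  obtain ⟨x', hx'⟩ : ∃ x' : GG K, x' = Y * ChevFixed.groupMap chevG2 ι x * Y⁻¹ := ⟨_, rfl⟩
  have hYt : Y * ChevFixed.groupMap chevG2 ι (emb F g0) = emb K D * Y := by
    rw [hY, emb_map, ← map_mul, hyg, map_mul]
  have hreg : ∀ r : Fin 12, rootWt (dd β) r = β ^ (expRed q).getD r 0 := fun r => by
    have h1 : rootWt (dd β) r = β ^ (expRaw q).getD r 0 := by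
      rw [hdd]
      fin_cases r <;> simp [rootWt, wts, expRaw, hσ] <;> ring
    rw [h1]
    rcases (expRed_facts hq r).2.2 with h | h
    · rw [h]
    · rw [h, pow_add, ← hn, hβn, mul_one]
  have hx'H : x' ∈ (RR K).HS := by
    refine RegularTorus.mem_HS_of_commute (RR K) (diag_mem_HS hD) (isMon_diag hD) (fun r h => ?_)
      (fun r s h => ?_) ?_
    · obtain ⟨h0, hlt, -⟩ := expRed_facts hq r
      rw [show rootWt (dd β) r = _ from hreg r, ← pow_zero β] at h
      exact h0.ne' (hβinj _ _ (hn ▸ hlt) (by omega) h)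
    · rw [show rootWt (dd β) r = _ from hreg r, show rootWt (dd β) s = _ from hreg s] at h
      exact expRed_inj hq r s (hβinj _ _ (hn ▸ (expRed_facts hq r).2.1) (hn ▸ (expRed_facts hq s).2.1) h)
    · have e1 : emb K D = Y * ChevFixed.groupMap chevG2 ι (emb F g0) * Y⁻¹ := by
        rw [hYt, mul_inv_cancel_right]
      rw [e1, hx', conj_mul, conj_mul, ← map_mul, ← map_mul, hcomm]
  obtain ⟨c, C, hC, hCx⟩ := exists_diag_of_mem_HS hx'H
  have hN : ChevFixed.groupMap chevG2 ι x = emb K (y⁻¹ * C * y) := by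
    rw [map_mul, map_mul, map_inv, hCx, hx', hY]; group
  have hNσ : Matrix.SpecialLinearGroup.map σ (y⁻¹ * C * y) = y⁻¹ * C * y := by
    apply emb_injective
    rw [← emb_map, ← hN, groupMap_comp_fixed ι σ hσι]
  obtain ⟨N, hNdef⟩ : ∃ N : SL(3, K), N = y⁻¹ * C * y := ⟨_, rfl⟩
  rw [← hNdef] at hN hNσ
  have hPN : P * (N : Matrix (Fin 3) (Fin 3) K) = Matrix.diagonal c * P := by
    refine (hiff _ _).1 ?_
    have h : y * N = C * y := by simp [hNdef, mul_assoc]
    have h' := congrArg (fun g : SL(3, K) => (g : Matrix (Fin 3) (Fin 3) K)) h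
    simpa only [Matrix.SpecialLinearGroup.coe_mul, hC] using h'
  have hcσ : ∀ i, σ (c i) = c (i + 1) := by
    intro i
    have h2 := congrArg (fun X : Matrix (Fin 3) (Fin 3) K => X.map σ) hPN
    simp only [Matrix.map_mul, Matrix.diagonal_map (map_zero σ), hPσ] at h2
    rw [show (N : Matrix (Fin 3) (Fin 3) K).map σ = N from congrArg Subtype.val hNσ] at h2
    have h3 := congrFun (congrFun h2 i) 0
    have h4 := congrFun (congrFun hPN (i + 1)) 0
    simp only [Matrix.mul_apply, Matrix.submatrix_apply, id_eq] at h3 h4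
    rw [h4] at h3
    simpa [Matrix.diagonal, Fin.sum_univ_three, hP, Matrix.vandermonde_apply] using h3.symm
  have hc : c = dd (c 0) := by
    funext i
    rw [hdd]
    fin_cases i
    · simp
    · simp [hcσ]
    · simp [hcσ, show (1 : Fin 3) + 1 = 2 from rfl]
  have hc0 : c 0 ^ orderOf β = 1 := by
    rw [hβ, ← hddprod, ← hc, ← Fin.prod_univ_three, ← Matrix.det_diagonal, ← hC]
    exact C.2
  haveI : NeZero (orderOf β) := ⟨by omega⟩
  obtain ⟨k, -, hk⟩ := (IsPrimitiveRoot.orderOf β).eq_pow_of_pow_eq_one hc0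
  have hND : N = Matrix.SpecialLinearGroup.map ι g0 ^ k := by
    have hCD : C = D ^ k := by
      refine Subtype.ext ?_
      rw [Matrix.SpecialLinearGroup.coe_pow, hD, Matrix.diagonal_pow, hC, hc, ← hk]
      congr 1
      funext i
      rw [Pi.pow_apply, hdd, hdd]
      fin_cases i <;> simp [map_pow]
    have hg : Matrix.SpecialLinearGroup.map ι g0 = y⁻¹ * D * y := by rw [mul_assoc, ← hyg]; group
    rw [hNdef, hCD, hg]
    simpa using (conj_pow (a := y⁻¹) (b := D) (i := k)).symm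
  refine ⟨(k : ℤ), ?_⟩
  show emb F g0 ^ (k : ℤ) = x
  rw [zpow_natCast]
  apply ChevFixed.groupMap_injective (D := chevG2) ι
  rw [hN, hND, map_pow, map_pow, emb_map]

end CfsgLib.Known.G2Singer
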