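import Cfsg.Agent.Lib.Lie.Chev.All
import Cfsg.Agent.Lib.Lie.Rel.Inst
import Cfsg.Agent.Lib.Lie.Rel.Torus
import Cfsg.Agent.Lib.Known.ChevFixed
import Cfsg.Agent.Lib.Classical.SLGroup

/-!
# The long root subgroup `SL(3)` of `G₂`

The adjoint module of `G₂` restricted to the subgroup of the long roots is `sl₃ ⊕ V ⊕ V*`; this
gives an explicit homomorphism of `SL(3, F)` into the Chevalley group sending transvections to the
long root elements.
-/

set_option autoImplicit false

namespace CfsgLib.Known.G2Singer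

open Cfsg.Lie (ChevalleyDatum chevG2)
open CfsgLib.Lie.Chev
open scoped Matrix MatrixGroups

variable {F K : Type*} [Field F] [Field K]

/-- The ambient space of `sl₃ ⊕ V ⊕ V*`. -/
abbrev W (F : Type*) : Type _ := Matrix (Fin 3) (Fin 3) F × (Fin 3 → F) × (Fin 3 → F)

theorem code_bound : chevG2.rank + chevG2.nroots = 14 := by decide +kernel

/-- The basis vector with a given number. -/
noncomputable def idx (k : Fin 14) : chevG2.Idx :=
  (exists_code chevG2 (code_bound.symm ▸ k.2 : (k : ℕ) < chevG2.rank + chevG2.nroots)).choose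

theorem code_idx (k : Fin 14) : code chevG2 (idx k) = k :=
  (exists_code chevG2 (code_bound.symm ▸ k.2 : (k : ℕ) < chevG2.rank + chevG2.nroots)).choose_spec

theorem exists_idx (a : chevG2.Idx) : ∃ k, a = idx k :=
  ⟨⟨code chevG2 a, code_bound ▸ code_lt chevG2 a⟩, code_injective chevG2 (code_idx ⟨code chevG2 a, code_bound ▸ code_lt chevG2 a⟩).symm⟩

/-- The coordinate with a given number. -/
noncomputable def cn (c : chevG2.Idx → F) (j : ℕ) : F := if h : j < 14 then c (idx ⟨j, h⟩) else 0

theorem cn_code (c : chevG2.Idx → F) (b : chevG2.Idx) : cn c (code chevG2 b) = c b := by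
  have h : code chevG2 b < 14 := code_bound ▸ code_lt chevG2 b
  rw [cn, dif_pos h]
  exact congrArg c (code_injective chevG2 (code_idx _))

theorem apply_idx (c : chevG2.Idx → F) (k : Fin 14) : c (idx k) = cn c k := by
  rw [← code_idx, cn_code]

theorem cn_add (a b : chevG2.Idx → F) (j : ℕ) : cn (a + b) j = cn a j + cn b j := by
  unfold cn; split <;> simp

theorem cn_smul (r : F) (a : chevG2.Idx → F) (j : ℕ) : cn (r • a) j = r * cn a j := by
  unfold cn; split <;> simp

theorem cn_comp (f : F →+* K) (a : chevG2.Idx → F) (j : ℕ) : cn (f ∘ a) j = f (cn a j) := by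
  unfold cn; split <;> simp

/-- The list of the coordinates of a point of `sl₃ ⊕ V ⊕ V*`. -/
def coordL (x : W F) : List F :=
  [-x.1 2 2, x.1 0 0 - x.1 2 2, x.1 2 0, x.1 2 1, x.2.1 2, x.2.2 0, x.2.2 1, x.1 1 0, x.1 0 1, x.2.1 1,
    x.2.1 0, x.2.2 2, x.1 1 2, x.1 0 2]

/-- From coordinates to `sl₃ ⊕ V ⊕ V*`. -/
noncomputable def iota : (chevG2.Idx → F) →ₗ[F] W F where
  toFun c :=
    (!![-cn c 0 + cn c 1, cn c 8, cn c 13; cn c 7, 2 * cn c 0 - cn c 1, cn c 12; cn c 2, cn c 3, -cn c 0],
      ![cn c 10, cn c 9, cn c 4], ![cn c 5, cn c 6, cn c 11])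
  map_add' a b := by
    refine Prod.ext ?_ (Prod.ext ?_ ?_)
    · ext i j; fin_cases i <;> fin_cases j <;> simp [cn_add] <;> ring
    · ext i; fin_cases i <;> simp [cn_add]
    · ext i; fin_cases i <;> simp [cn_add]
  map_smul' a b := by
    refine Prod.ext ?_ (Prod.ext ?_ ?_)
    · ext i j; fin_cases i <;> fin_cases j <;> simp [cn_smul] <;> ring
    · ext i; fin_cases i <;> simp [cn_smul]
    · ext i; fin_cases i <;> simp [cn_smul]

/-- From `sl₃ ⊕ V ⊕ V*` to coordinates. -/
noncomputable def coord : W F →ₗ[F] (chevG2.Idx → F) where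
  toFun x a := (coordL x).getD (code chevG2 a) 0
  map_add' a b := by
    funext a'
    obtain ⟨k, rfl⟩ := exists_idx a'
    fin_cases k <;> simp [code_idx, coordL] <;> ring
  map_smul' a b := by
    funext a'
    obtain ⟨k, rfl⟩ := exists_idx a'
    fin_cases k <;> simp [code_idx, coordL] <;> ring

theorem coord_apply (x : W F) (k : Fin 14) : coord x (idx k) = (coordL x).getD k 0 := by
  show (coordL x).getD (code chevG2 (idx k)) 0 = _
  rw [code_idx]

theorem cn_coord (x : W F) (j : ℕ) (h : j < 14) : cn (coord x) j = (coordL x).getD j 0 := by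
  rw [cn, dif_pos h, coord_apply]

theorem coord_iota (c : chevG2.Idx → F) : coord (iota c) = c := by
  funext a
  obtain ⟨k, rfl⟩ := exists_idx a
  rw [coord_apply, apply_idx c k]
  fin_cases k <;> simp [coordL, iota] <;> ring

theorem iota_coord (x : W F) (hx : x.1.trace = 0) : iota (coord x) = x := by
  have h : x.1 1 1 = -x.1 0 0 - x.1 2 2 := by
    rw [Matrix.trace_fin_three] at hx; linear_combination hx
  refine Prod.ext ?_ (Prod.ext ?_ ?_)
  · ext i j; fin_cases i <;> fin_cases j <;> simp [iota, cn_coord, coordL, h] <;> ring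
  · ext i; fin_cases i <;> simp [iota, cn_coord, coordL]
  · ext i; fin_cases i <;> simp [iota, cn_coord, coordL]

theorem trace_iota (c : chevG2.Idx → F) : (iota c).1.trace = 0 := by
  rw [Matrix.trace_fin_three]; simp [iota]; ring

/-- The action of a matrix. -/
def act (M : Matrix (Fin 3) (Fin 3) F) : W F →ₗ[F] W F where
  toFun x := (M * x.1 * M.adjugate, M *ᵥ x.2.1, M.adjugateᵀ *ᵥ x.2.2)
  map_add' a b := by simp [Matrix.mul_add, Matrix.add_mul, Matrix.mulVec_add]
  map_smul' a b := by simp [Matrix.mulVec_smul]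

theorem trace_act (M : Matrix (Fin 3) (Fin 3) F) {x : W F} (hx : x.1.trace = 0) : (act M x).1.trace = 0 := by
  show (M * x.1 * M.adjugate).trace = 0
  rw [Matrix.trace_mul_comm, ← mul_assoc, Matrix.adjugate_mul, Matrix.smul_mul, one_mul, Matrix.trace_smul,
    hx, smul_zero]

theorem act_one (x : W F) : act 1 x = x := by
  simp [act, Matrix.adjugate_one]

theorem act_mul (M N : Matrix (Fin 3) (Fin 3) F) (x : W F) : act (M * N) x = act M (act N x) := by
  simp [act, Matrix.adjugate_mul_distrib, Matrix.transpose_mul, Matrix.mulVec_mulVec, mul_assoc]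

/-- The action in coordinates. -/
noncomputable def phiL (M : Matrix (Fin 3) (Fin 3) F) : (chevG2.Idx → F) →ₗ[F] (chevG2.Idx → F) :=
  coord ∘ₗ act M ∘ₗ iota

/-- The representation of `3 × 3` matrices on the adjoint module. -/
noncomputable def phiM : Matrix (Fin 3) (Fin 3) F →* Matrix chevG2.Idx chevG2.Idx F where
  toFun M := LinearMap.toMatrix' (phiL M)
  map_one' := by
    rw [show phiL (1 : Matrix (Fin 3) (Fin 3) F) = LinearMap.id from LinearMap.ext fun c => by
      simp [phiL, act_one, coord_iota], LinearMap.toMatrix'_id]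
  map_mul' M N := by
    rw [← LinearMap.toMatrix'_comp]
    congr 1
    refine LinearMap.ext fun c => ?_
    simp only [phiL, LinearMap.comp_apply]
    rw [iota_coord _ (trace_act _ (trace_iota c)), act_mul]

theorem phiM_mulVec (M : Matrix (Fin 3) (Fin 3) F) (c : chevG2.Idx → F) : phiM M *ᵥ c = phiL M c :=
  LinearMap.toMatrix'_mulVec _ _

theorem phiM_map (f : F →+* K) (M : Matrix (Fin 3) (Fin 3) F) : (phiM M).map f = phiM (M.map f) := by
  classical
  refine Matrix.ext fun a b => ?_
  show f (LinearMap.toMatrix' (phiL M) a b) = LinearMap.toMatrix' (phiL (M.map f)) a b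
  rw [LinearMap.toMatrix'_apply, LinearMap.toMatrix'_apply]
  obtain ⟨c, hc⟩ : ∃ c, c = (Pi.single b (1 : F) : chevG2.Idx → F) := ⟨_, rfl⟩
  have hc' : (Pi.single b (1 : K) : chevG2.Idx → K) = f ∘ c := by
    funext j; rw [hc, Function.comp_apply, Pi.single_apply, Pi.single_apply]; split <;> simp
  rw [← hc, hc']
  have h1 : iota (f ∘ c) = ((iota c).1.map f, f ∘ (iota c).2.1, f ∘ (iota c).2.2) := by
    refine Prod.ext ?_ (Prod.ext ?_ ?_)
    · ext i j; fin_cases i <;> fin_cases j <;> simp [iota, cn_comp, map_ofNat]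
    · funext i; fin_cases i <;> simp [iota, cn_comp]
    · funext i; fin_cases i <;> simp [iota, cn_comp]
  have h2 : act (M.map f) ((iota c).1.map f, f ∘ (iota c).2.1, f ∘ (iota c).2.2) =
      ((act M (iota c)).1.map f, f ∘ (act M (iota c)).2.1, f ∘ (act M (iota c)).2.2) := by
    have ha : (M.map f).adjugate = M.adjugate.map f := (RingHom.map_adjugate f M).symm
    refine Prod.ext ?_ (Prod.ext ?_ ?_)
    · show M.map f * _ * (M.map f).adjugate = (M * (iota c).1 * M.adjugate).map f
      rw [ha, Matrix.map_mul, Matrix.map_mul]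
    · funext i; exact (RingHom.map_mulVec f M _ i).symm
    · funext i
      show ((M.map f).adjugateᵀ *ᵥ _) i = f ((M.adjugateᵀ *ᵥ _) i)
      rw [ha, RingHom.map_mulVec, Matrix.transpose_map]
  show f (coord (act M (iota c)) a) = coord (act (M.map f) (iota (f ∘ c))) a
  rw [h1, h2]
  obtain ⟨k, rfl⟩ := exists_idx a
  rw [coord_apply, coord_apply]
  fin_cases k <;> simp [coordL]

theorem matOf_mulVec (L : List (ℕ × ℕ × ℕ × ℤ)) (hcol : ∀ e ∈ L, e.2.2.1 < 14) (t : F) (c : chevG2.Idx → F)
    (a : chevG2.Idx) :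
    (matOf chevG2 L t *ᵥ c) a =
      (L.map fun e => if e.2.1 = code chevG2 a then (e.2.2.2 : F) * t ^ e.1 * cn c e.2.2.1 else 0).sum := by
  simp only [Matrix.mulVec, dotProduct, matOf, Matrix.of_apply]
  induction L with
  | nil => simp
  | cons f L ih =>
    simp only [List.map_cons, List.sum_cons, add_mul, Finset.sum_add_distrib]
    rw [ih fun e he => hcol e (List.mem_cons_of_mem _ he)]
    congr 1
    obtain ⟨b, hb⟩ := exists_code chevG2 (code_bound.symm ▸ hcol f (List.mem_cons_self ..))
    by_cases ha : f.2.1 = code chevG2 a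
    · rw [if_pos ha, Finset.sum_eq_single b]
      · rw [if_pos ⟨ha, hb.symm⟩, ← hb, cn_code]
      · intro x _ hx
        rw [if_neg, zero_mul]
        exact fun h => hx (code_injective chevG2 (h.2.symm.trans hb.symm))
      · simp
    · rw [if_neg ha]
      exact Finset.sum_eq_zero fun x _ => by rw [if_neg fun h => ha h.1, zero_mul]

/-- the long roots are well formed -/
def okLong (r : ℕ) : Bool :=
  Nat.blt r chevG2.nroots && !Nat.beq (chevG2.neg r) r &&
    (row chevG2 r).all (fun e => !Nat.beq e.1 r && !Nat.beq e.1 (chevG2.neg r)) &&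
    (entries chevG2 r).all fun e => Nat.blt e.2.2.1 14

theorem long_ok : ([6, 10, 11, 5, 1, 0].all okLong) = true := by decide +kernel

theorem x_mulVec {r : ℕ} (hr : r ∈ [6, 10, 11, 5, 1, 0]) (t : F) (c : chevG2.Idx → F) (a : chevG2.Idx) :
    (chevG2.x F r t *ᵥ c) a = c a +
      ((entries chevG2 r).map fun e => if e.2.1 = code chevG2 a then (e.2.2.2 : F) * t ^ e.1 * cn c e.2.2.1 else 0).sum := by
  have h := List.all_eq_true.1 long_ok r hr
  simp only [okLong, Bool.and_eq_true, List.all_eq_true, nat_blt_iff, Bool.not_eq_true', ← Bool.not_eq_true,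
    nat_beq_iff] at h
  obtain ⟨⟨⟨h1, h2⟩, h3⟩, h4⟩ := h
  rw [xMat_eq chevG2 h1 h2 fun e he => h3 e he, Matrix.add_mulVec, Pi.add_apply, Matrix.one_mulVec,
    matOf_mulVec _ h4]

theorem adj_transvection {i j : Fin 3} (h : i ≠ j) (t : F) :
    (Matrix.transvection i j t).adjugate = Matrix.transvection i j (-t) := by
  have h1 : (Matrix.transvection i j t).adjugate * Matrix.transvection i j t = 1 := by
    rw [Matrix.adjugate_mul, Matrix.det_transvection_of_ne _ _ h, one_smul]
  have h2 : Matrix.transvection i j t * Matrix.transvection i j (-t) = 1 := by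
    rw [Matrix.transvection_mul_transvection_same (h := h), add_neg_cancel, Matrix.transvection_zero]
  rw [← mul_one (Matrix.transvection i j t).adjugate, ← h2, ← mul_assoc, h1, one_mul]

/-- the root of an off-diagonal position -/
def rootOf (i j : Fin 3) : ℕ := ![![0, 6, 11], ![5, 0, 10], ![0, 1, 0]] i j

theorem entries_6 : entries chevG2 6 = [(1, 8, 0, 3), (1, 0, 7, 0), (1, 8, 1, (-2)), (1, 1, 7, 1), (2, 8, 7, (-1)), (1, 3, 2, (-1)), (1, 6, 5, (-1)), (1, 10, 9, 1), (1, 13, 12, 1)] := by decide +kernel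

theorem entries_10 : entries chevG2 10 = [(1, 12, 0, (-3)), (1, 0, 3, 1), (1, 12, 1, 1), (1, 1, 3, 1), (2, 12, 3, (-1)), (1, 7, 2, 1), (1, 9, 4, 1), (1, 11, 6, (-1)), (1, 13, 8, (-1))] := by decide +kernel

theorem entries_11 : entries chevG2 11 = [(1, 13, 0, 0), (1, 0, 2, 1), (1, 13, 1, (-1)), (1, 1, 2, 2), (2, 13, 2, (-1)), (1, 8, 3, 1), (1, 10, 4, 1), (1, 11, 5, (-1)), (1, 12, 7, (-1))] := by decide +kernel

theorem entries_5 : entries chevG2 5 = [(1, 7, 0, (-3)), (1, 0, 8, 0), (1, 7, 1, 2), (1, 1, 8, (-1)), (2, 7, 8, (-1)), (1, 2, 3, (-1)), (1, 5, 6, (-1)), (1, 9, 10, 1), (1, 12, 13, 1)] := by decide +kernel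

theorem entries_1 : entries chevG2 1 = [(1, 3, 0, 3), (1, 0, 12, (-1)), (1, 3, 1, (-1)), (1, 1, 12, (-1)), (2, 3, 12, (-1)), (1, 2, 7, 1), (1, 4, 9, 1), (1, 6, 11, (-1)), (1, 8, 13, (-1))] := by decide +kernel

theorem entries_0 : entries chevG2 0 = [(1, 2, 0, 0), (1, 0, 13, (-1)), (1, 2, 1, 1), (1, 1, 13, (-2)), (2, 2, 13, (-1)), (1, 3, 8, 1), (1, 4, 10, 1), (1, 5, 11, (-1)), (1, 7, 12, (-1))] := by decide +kernel

theorem transvection_root (i j : Fin 3) (h : i ≠ j) :
    rootOf i j ∈ [6, 10, 11, 5, 1, 0] := by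
  revert i j; decide

set_option maxHeartbeats 4000000 in
theorem phiM_transvection {i j : Fin 3} (h : i ≠ j) (t : F) :
    phiM (Matrix.transvection i j t) = chevG2.x F (rootOf i j) t := by
  refine Matrix.ext fun a b => ?_
  suffices key : ∀ c : chevG2.Idx → F, phiL (Matrix.transvection i j t) c a =
      c a + ((entries chevG2 (rootOf i j)).map fun e =>
        if e.2.1 = code chevG2 a then (e.2.2.2 : F) * t ^ e.1 * cn c e.2.2.1 else 0).sum by
    have h1 := key (Pi.single b 1)
    rw [← x_mulVec (transvection_root i j h) t, ← phiM_mulVec, Matrix.mulVec_single_one,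
      Matrix.mulVec_single_one] at h1
    exact h1
  intro c
  have h01 : act (Matrix.transvection i j t) (iota c) =
      (Matrix.transvection i j t * (iota c).1 * Matrix.transvection i j (-t), Matrix.transvection i j t *ᵥ (iota c).2.1,
        (Matrix.transvection i j (-t))ᵀ *ᵥ (iota c).2.2) := by
    rw [← adj_transvection h]; rfl
  show coord (act (Matrix.transvection i j t) (iota c)) a = _
  rw [h01]
  fin_cases i <;> fin_cases j <;> first | exact absurd rfl h | skip
  all_goals
    obtain ⟨k, rfl⟩ := exists_idx a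
    rw [coord_apply, apply_idx c k, code_idx]
    fin_cases k <;>
      simp [rootOf, entries_6, entries_10, entries_11, entries_5, entries_1, entries_0, coordL, iota,
        Matrix.transvection, Matrix.mul_apply, Matrix.mulVec, dotProduct, Fin.sum_univ_three, Matrix.single] <;> ring

end CfsgLib.Known.G2Singer
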